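import Mathlib
import Cfsg.Agent.Lib.Helper50.CAI.Defs

/-!
# S2202 (CAI) package [QUOT]: quotients by a normal subgroup contained in all `Bz P`
-/

set_option autoImplicit false

namespace Cfsg.Agent.Lib.Helper67.CAI

open Cfsg.Agent.Lib.Helper50.CAI

universe u

/-- an element killed by an odd power and by a power of two is trivial -/
theorem eq_one_of_odd_of_two_pow {G : Type u} [Group G] (y : G) (m a : ℕ) (hm : Odd m)
    (h1 : y ^ m = 1) (h2 : y ^ (2 ^ a) = 1) : y = 1 := by
  have hd : orderOf y ∣ Nat.gcd m (2 ^ a) :=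
    Nat.dvd_gcd (orderOf_dvd_of_pow_eq_one h1) (orderOf_dvd_of_pow_eq_one h2)
  have hc : Nat.gcd m (2 ^ a) = 1 := Nat.Coprime.pow_right a (Nat.coprime_two_right.mpr hm)
  rw [hc, Nat.dvd_one] at hd
  exact orderOf_eq_one_iff.mp hd

theorem pkgQuot (hB : PkgBasic.{u}) : PkgQuot.{u} := by
  intro G _ _ hyp N _ hN
  classical
  have : Fact (Nat.Prime 2) := ⟨Nat.prime_two⟩
  have hsurj : Function.Surjective (QuotientGroup.mk' N) := QuotientGroup.mk'_surjective N
  have hker : ∀ x : G, QuotientGroup.mk' N x = 1 ↔ x ∈ N := by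
    intro x
    rw [← MonoidHom.mem_ker, QuotientGroup.ker_mk']
  obtain ⟨P₀⟩ : Nonempty (Sylow 2 G) := inferInstance
  have hNodd : ∀ n ∈ N, Odd (orderOf n) :=
    fun n hn => (((hB hyp P₀).memB n).mp (hN P₀ hn)).2
  have hNcard : Odd (Nat.card N) := by
    rw [← Nat.not_even_iff_odd]
    intro hev
    obtain ⟨x, hx⟩ := exists_prime_orderOf_dvd_card' (G := N) 2 (even_iff_two_dvd.mp hev)
    have h1 := hNodd (x : G) x.2
    rw [Subgroup.orderOf_coe, hx] at h1
    exact absurd h1 (by decide)
  have hNpow : ∀ n ∈ N, n ^ Nat.card N = 1 := by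
    intro n hn
    have h1 := pow_card_eq_one' (G := N) (x := ⟨n, hn⟩)
    have h2 := congrArg Subtype.val h1
    simpa only [Subgroup.coe_pow, Subgroup.coe_one] using h2
  -- two-elements
  have h2pow : ∀ (P : Sylow 2 G), ∀ x ∈ (P : Subgroup G), ∃ k : ℕ, x ^ (2 ^ k) = 1 := by
    intro P x hx
    obtain ⟨k, hk⟩ := P.2 ⟨x, hx⟩
    refine ⟨k, ?_⟩
    have h2 := congrArg Subtype.val hk
    simpa using h2
  have hPN : ∀ (P : Sylow 2 G), ∀ x ∈ (P : Subgroup G), x ∈ N → x = 1 := by
    intro P x hx hxN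
    obtain ⟨k, hk⟩ := h2pow P x hx
    exact eq_one_of_odd_of_two_pow x (orderOf x) k (hNodd x hxN) (pow_orderOf_eq_one x) hk
  have hNP : ∀ (P : Sylow 2 G), ∀ n ∈ N, ∀ x ∈ (P : Subgroup G), x * n = n * x := by
    intro P n hn x hx
    have h1 := (((hB hyp P).memB n).mp (hN P hn)).1
    exact Subgroup.mem_centralizer_iff.mp h1 x hx
  have hinvP : ∀ t : G, orderOf t = 2 → ∃ P : Sylow 2 G, t ∈ (P : Subgroup G) := by
    intro t ht
    have hp : IsPGroup 2 (Subgroup.zpowers t) :=
      IsPGroup.of_card (n := 1) (by rw [Nat.card_zpowers, ht, pow_one])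
    obtain ⟨P, hP⟩ := hp.exists_le_sylow
    exact ⟨P, hP (Subgroup.mem_zpowers t)⟩
  have hNt : ∀ t : G, orderOf t = 2 → ∀ n ∈ N, t * n = n * t := by
    intro t ht n hn
    obtain ⟨P, hP⟩ := hinvP t ht
    exact hNP P n hn t hP
  -- lifting involutions
  have hlift : ∀ t' : G ⧸ N, orderOf t' = 2 →
      ∃ t : G, orderOf t = 2 ∧ QuotientGroup.mk' N t = t' := by
    intro t' ht'
    obtain ⟨x, hx⟩ := hsurj t'
    obtain ⟨k, hk⟩ := hNcard
    have ht'2 : t' ^ 2 = 1 := by rw [← ht']; exact pow_orderOf_eq_one t'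
    have hx2 : x ^ 2 ∈ N := by
      rw [← hker, map_pow, hx, ht'2]
    have himg : QuotientGroup.mk' N (x ^ Nat.card N) = t' := by
      rw [map_pow, hx, hk, pow_succ, pow_mul, ht'2, one_pow, one_mul]
    refine ⟨x ^ Nat.card N, ?_, himg⟩
    apply orderOf_eq_prime
    · rw [← pow_mul, mul_comm, pow_mul]
      exact hNpow _ hx2
    · intro h1
      rw [h1, map_one] at himg
      rw [← himg, orderOf_one] at ht'
      exact absurd ht' (by decide)
  -- centralizers of involutions in the quotient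
  have hcent : ∀ t : G, orderOf t = 2 → ∀ g : G,
      QuotientGroup.mk' N t * QuotientGroup.mk' N g = QuotientGroup.mk' N g * QuotientGroup.mk' N t →
      t * g = g * t := by
    intro t ht g hg
    have ht2 : t * t = 1 := by
      have := pow_orderOf_eq_one t
      rw [ht, pow_two] at this
      exact this
    have hn : t⁻¹ * (g * t * g⁻¹) ∈ N := by
      rw [← hker, map_mul, map_mul, map_mul, map_inv, map_inv, ← hg]
      group
    obtain ⟨n, hnN, hndef⟩ : ∃ n ∈ N, n = t⁻¹ * (g * t * g⁻¹) := ⟨_, hn, rfl⟩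
    have hgt : g * t * g⁻¹ = t * n := by rw [hndef]; group
    have hcomm := hNt t ht n hnN
    have hsq : (g * t * g⁻¹) * (g * t * g⁻¹) = 1 := by
      calc (g * t * g⁻¹) * (g * t * g⁻¹) = g * (t * t) * g⁻¹ := by group
        _ = 1 := by rw [ht2]; group
    have hn2 : n ^ (2 ^ 1) = 1 := by
      rw [hgt] at hsq
      have h1 : t * n * (t * n) = (t * t) * (n * n) := by
        calc t * n * (t * n) = t * (n * t) * n := by group
          _ = t * (t * n) * n := by rw [hcomm]
          _ = (t * t) * (n * n) := by group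
      rw [h1, ht2, one_mul] at hsq
      rw [pow_one, pow_two]
      exact hsq
    have hn1 : n = 1 :=
      eq_one_of_odd_of_two_pow n (orderOf n) 1 (hNodd n hnN) (pow_orderOf_eq_one n) hn2
    rw [hn1, mul_one] at hgt
    calc t * g = (g * t * g⁻¹) * g := by rw [hgt]
      _ = g * t := by group
  -- `Hyp` for the quotient
  have hyp' : Hyp (G ⧸ N) := by
    refine ⟨?_, ?_, ?_⟩
    · intro t' ht'
      obtain ⟨t, ht, rfl⟩ := hlift t' ht'
      refine ⟨⟨fun a b => ?_⟩⟩
      obtain ⟨x, hx⟩ := hsurj (a : G ⧸ N)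
      obtain ⟨y, hy⟩ := hsurj (b : G ⧸ N)
      have hxt : t * x = x * t := by
        apply hcent t ht x
        rw [hx]
        exact Subgroup.mem_centralizer_iff.mp a.2 _ (Set.mem_singleton _)
      have hyt : t * y = y * t := by
        apply hcent t ht y
        rw [hy]
        exact Subgroup.mem_centralizer_iff.mp b.2 _ (Set.mem_singleton _)
      have hxc : x ∈ Subgroup.centralizer ({t} : Set G) := by
        rw [Subgroup.mem_centralizer_iff]
        intro h hh
        rw [Set.mem_singleton_iff.mp hh]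
        exact hxt
      have hyc : y ∈ Subgroup.centralizer ({t} : Set G) := by
        rw [Subgroup.mem_centralizer_iff]
        intro h hh
        rw [Set.mem_singleton_iff.mp hh]
        exact hyt
      have hxy : x * y = y * x := by
        have h1 := (hyp.ca t ht).is_comm.comm ⟨x, hxc⟩ ⟨y, hyc⟩
        exact congrArg Subtype.val h1
      apply Subtype.ext
      rw [Subgroup.coe_mul, Subgroup.coe_mul, ← hx, ← hy, ← map_mul, ← map_mul, hxy]
    · intro P' hcyc
      obtain ⟨P, rfl⟩ := Sylow.mapSurjective_surjective hsurj 2 P'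
      apply hyp.ncyc P
      have hcyc' : IsCyclic ↥((P : Subgroup G).map (QuotientGroup.mk' N)) := hcyc
      refine isCyclic_of_injective
        (((QuotientGroup.mk' N).comp (P : Subgroup G).subtype).codRestrict
          ((P : Subgroup G).map (QuotientGroup.mk' N))
          (fun x => Subgroup.mem_map_of_mem _ x.2)) ?_
      rw [injective_iff_map_eq_one]
      intro x hx
      have h1 := congrArg Subtype.val hx
      have h2 : QuotientGroup.mk' N (x : G) = 1 := h1
      apply Subtype.ext
      exact hPN P x x.2 ((hker _).mp h2)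
    · intro P' hnorm
      obtain ⟨P, rfl⟩ := Sylow.mapSurjective_surjective hsurj 2 P'
      apply hyp.nnorm P
      have hnorm' : ((P : Subgroup G).map (QuotientGroup.mk' N)).Normal := hnorm
      refine ⟨fun x hx g => ?_⟩
      have h1 : QuotientGroup.mk' N (g * x * g⁻¹) ∈ (P : Subgroup G).map (QuotientGroup.mk' N) := by
        rw [map_mul, map_mul, map_inv]
        exact hnorm'.conj_mem _ (Subgroup.mem_map_of_mem _ hx) _
      obtain ⟨p, hp, hpeq⟩ := Subgroup.mem_map.mp h1
      have hn : p⁻¹ * (g * x * g⁻¹) ∈ N := by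
        rw [← hker, map_mul, map_inv, hpeq, inv_mul_cancel]
      obtain ⟨n, hnN, hndef⟩ : ∃ n ∈ N, n = p⁻¹ * (g * x * g⁻¹) := ⟨_, hn, rfl⟩
      have hgx : g * x * g⁻¹ = p * n := by rw [hndef]; group
      have hcomm : Commute p n := hNP P n hnN p hp
      obtain ⟨k, hk⟩ := h2pow P x hx
      obtain ⟨l, hl⟩ := h2pow P p hp
      have hxa : x ^ (2 ^ (k + l)) = 1 := by rw [pow_add, pow_mul, hk, one_pow]
      have hpa : p ^ (2 ^ (k + l)) = 1 := by rw [pow_add, mul_comm, pow_mul, hl, one_pow]
      have h3 : (g * x * g⁻¹) ^ (2 ^ (k + l)) = 1 := by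
        rw [conj_pow, hxa]; group
      rw [hgx, hcomm.mul_pow, hpa, one_mul] at h3
      have hn1 : n = 1 :=
        eq_one_of_odd_of_two_pow n (orderOf n) (k + l) (hNodd n hnN) (pow_orderOf_eq_one n) h3
      rw [hn1, mul_one] at hgx
      rw [hgx]
      exact hp
  -- the odd parts
  have hBz : ∀ P : Sylow 2 G,
      Bz (P.mapSurjective hsurj) = (Bz P).map (QuotientGroup.mk' N) := by
    intro P
    have bf := hB hyp P
    have bf' := hB hyp' (P.mapSurjective hsurj)
    have hcoe : ((P.mapSurjective hsurj : Sylow 2 (G ⧸ N)) : Subgroup (G ⧸ N)) =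
        (P : Subgroup G).map (QuotientGroup.mk' N) := rfl
    ext x'
    constructor
    · intro hx'
      obtain ⟨hxC, hxodd⟩ := (bf'.memB x').mp hx'
      have hthree := bf.three
      have hne : Nonempty {t : G // t ∈ (P : Subgroup G) ∧ orderOf t = 2} := by
        have h1 : 0 < Nat.card {t : G // t ∈ (P : Subgroup G) ∧ orderOf t = 2} := by
          unfold mInv at hthree
          omega
        exact (Nat.card_pos_iff.mp h1).1
      obtain ⟨⟨t, htP, ht⟩⟩ := hne
      obtain ⟨g, rfl⟩ := hsurj x'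
      have htg : t * g = g * t := by
        apply hcent t ht g
        apply Subgroup.mem_centralizer_iff.mp hxC
        rw [Sylow.coe_mapSurjective]
        exact Subgroup.mem_map_of_mem _ htP
      have hgC : g ∈ Cz P := by
        rw [← bf.cent t htP ht, Subgroup.mem_centralizer_iff]
        intro h hh
        rw [Set.mem_singleton_iff.mp hh]
        exact htg
      obtain ⟨s, hs, b, hb, hgsb⟩ := bf.split g hgC
      obtain ⟨hbC, hbodd⟩ := (bf.memB b).mp hb
      obtain ⟨m, hm⟩ : ∃ m : ℕ, m = orderOf (QuotientGroup.mk' N g) * orderOf b := ⟨_, rfl⟩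
      have hmodd : Odd m := by rw [hm]; exact hxodd.mul hbodd
      have hbm : b ^ m = 1 := by rw [hm, mul_comm, pow_mul, pow_orderOf_eq_one, one_pow]
      have hgm : g ^ m ∈ N := by
        rw [← hker, map_pow, hm, pow_mul, pow_orderOf_eq_one, one_pow]
      have hsb : Commute s b := Subgroup.mem_centralizer_iff.mp hbC s hs
      have hsm : s ^ m = g ^ m := by
        rw [hgsb, hsb.mul_pow, hbm, mul_one]
      have hsm1 : s ^ m = 1 := hPN P _ (Subgroup.pow_mem _ hs m) (hsm ▸ hgm)
      obtain ⟨k, hk⟩ := h2pow P s hs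
      have hs1 : s = 1 := eq_one_of_odd_of_two_pow s m k hmodd hsm1 hk
      rw [hs1, one_mul] at hgsb
      rw [hgsb]
      exact Subgroup.mem_map_of_mem _ hb
    · intro hx'
      obtain ⟨b, hb, rfl⟩ := Subgroup.mem_map.mp hx'
      obtain ⟨hbC, hbodd⟩ := (bf.memB b).mp hb
      rw [bf'.memB]
      refine ⟨?_, ?_⟩
      · unfold Cz
        rw [Subgroup.mem_centralizer_iff]
        intro h' hh'
        rw [SetLike.mem_coe, Sylow.coe_mapSurjective] at hh'
        obtain ⟨h, hh, rfl⟩ := Subgroup.mem_map.mp hh'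
        rw [← map_mul, ← map_mul, Subgroup.mem_centralizer_iff.mp hbC h hh]
      · exact Odd.of_dvd_nat hbodd (orderOf_map_dvd _ b)
  refine ⟨hyp', hNcard, fun P => ⟨P.mapSurjective hsurj, hBz P⟩, fun P' => ?_, hlift⟩
  obtain ⟨P, rfl⟩ := Sylow.mapSurjective_surjective hsurj 2 P'
  exact ⟨P, hBz P⟩

end Cfsg.Agent.Lib.Helper67.CAI
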